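import Mathlib
/-!
# Etale neighbourhoods realising a non-zero value of a polynomial
-/

set_option autoImplicit false
universe u
open Polynomial

namespace EtSectLib

theorem infinite_of_isSepClosed (K : Type u) [Field K] [IsSepClosed K] : Infinite K := by
  rcases finite_or_infinite K with h | h
  · exact IsAlgClosed.instInfinite
  · exact h

theorem exists_common_denom {R κ : Type u} [CommRing R] [Field κ] [Algebra R κ]
    (hκ : ∀ z : κ, ∃ a b : R, algebraMap R κ b ≠ 0 ∧ z * algebraMap R κ b = algebraMap R κ a) (s : Finset κ) :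
    ∃ b : R, algebraMap R κ b ≠ 0 ∧ ∀ z ∈ s, ∃ a : R, z * algebraMap R κ b = algebraMap R κ a := by
  classical
  induction s using Finset.induction with
  | empty => exact ⟨1, by simp, by simp⟩
  | @insert z s hz ih =>
    obtain ⟨b, hb, ih⟩ := ih
    obtain ⟨a, b', hb', hab⟩ := hκ z
    refine ⟨b * b', by simp [hb, hb'], fun w hw => ?_⟩
    rcases Finset.mem_insert.1 hw with rfl | hw
    · exact ⟨a * b, by rw [map_mul, map_mul, ← hab]; ring⟩
    · obtain ⟨a', ha'⟩ := ih w hw
      exact ⟨a' * b', by rw [map_mul, map_mul, ← ha']; ring⟩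

/-- Given a finite family `c` in a separable extension of the field `κ`, some etale `R`-algebra has
a point over `R → κ` at which prescribed elements take the values `c`. -/
theorem exists_etale_point {R κ K : Type u} [CommRing R] [Field κ] [Field K] [Algebra R κ]
    [Algebra κ K] [Algebra R K] [IsScalarTower R κ K] [Algebra.IsSeparable κ K]
    (hκ : ∀ z : κ, ∃ a b : R, algebraMap R κ b ≠ 0 ∧ z * algebraMap R κ b = algebraMap R κ a)
    {n : ℕ} (c : Fin n → K) :
    ∃ (R₂ : Type u) (_ : CommRing R₂) (_ : Algebra R R₂) (φ : R₂ →ₐ[R] K) (x : Fin n → R₂),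
      Algebra.Etale R R₂ ∧ ∀ i, φ (x i) = c i := by
  classical
  let L := IntermediateField.adjoin κ (Set.range c)
  have : FiniteDimensional κ L := IntermediateField.finiteDimensional_adjoin fun z _ =>
    (Algebra.IsSeparable.isSeparable κ z).isIntegral
  obtain ⟨α₀, hα₀⟩ := Field.exists_primitive_element κ L
  have hint : IsIntegral κ α₀ := Algebra.IsIntegral.isIntegral α₀
  have hq : ∀ i, ∃ q : κ[X], aeval (α₀ : K) q = c i := fun i => by
    let z : L := ⟨c i, IntermediateField.subset_adjoin κ _ ⟨i, rfl⟩⟩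
    have hz : z ∈ Algebra.adjoin κ {α₀} := by
      rw [← IntermediateField.adjoin_simple_toSubalgebra_of_isAlgebraic hint.isAlgebraic, hα₀]
      exact IntermediateField.mem_top
    rw [Algebra.adjoin_singleton_eq_range_aeval] at hz
    obtain ⟨q, hq⟩ := hz
    refine ⟨q, ?_⟩
    have h := congrArg L.val hq
    exact (Polynomial.aeval_algHom_apply L.val α₀ q).trans h
  choose q hq using hq
  have hintK : IsIntegral κ (α₀ : K) := (Algebra.IsSeparable.isSeparable κ (α₀ : K)).isIntegral
  let m := minpoly κ (α₀ : K)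
  obtain ⟨b, hb, hbc⟩ := exists_common_denom hκ (m.coeffs ∪ Finset.univ.biUnion fun i => (q i).coeffs)
  let Rb := Localization.Away b
  let ψ : Rb →+* κ := IsLocalization.Away.lift b (g := algebraMap R κ) (Ne.isUnit hb)
  have hψ : ∀ r, ψ (algebraMap R Rb r) = algebraMap R κ r := IsLocalization.Away.lift_eq b _
  have hlift : ∀ p : κ[X], p.coeffs ⊆ m.coeffs ∪ (Finset.univ.biUnion fun i => (q i).coeffs) →
      p ∈ lifts ψ := fun p hp => (lifts_iff_coeff_lifts p).2 fun k => by
    by_cases hk : p.coeff k = 0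
    · exact ⟨0, by rw [map_zero, hk]⟩
    obtain ⟨a, ha⟩ := hbc _ (hp (coeff_mem_coeffs hk))
    refine ⟨algebraMap R Rb a * IsLocalization.Away.invSelf b, ?_⟩
    have hu : ψ (IsLocalization.Away.invSelf b) * algebraMap R κ b = 1 := by
      rw [← hψ, ← map_mul, mul_comm, IsLocalization.Away.mul_invSelf, map_one]
    rw [map_mul, hψ, ← ha, mul_assoc, mul_comm (algebraMap R κ b), hu, mul_one]
  obtain ⟨g, hg, -, hgm⟩ := lifts_and_natDegree_eq_and_monic
    (hlift m (Finset.subset_union_left)) (minpoly.monic hintK)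
  have hql : ∀ i, ∃ p : Rb[X], p.map ψ = q i := fun i => (mem_lifts _).1 (hlift (q i) fun z hz =>
    Finset.mem_union_right _ (Finset.mem_biUnion.2 ⟨i, Finset.mem_univ _, hz⟩))
  choose p hp using hql
  let P : StandardEtalePair Rb := ⟨g, hgm, derivative g, 1, 0, 1, by simp⟩
  let : Algebra Rb K := ((algebraMap κ K).comp ψ).toAlgebra
  have hae : ∀ f : Rb[X], aeval (α₀ : K) f = aeval (α₀ : K) (f.map ψ) := fun f => by
    rw [aeval_def, aeval_def, eval₂_map]
    rfl
  have hα : P.HasMap (α₀ : K) := by
    refine ⟨by rw [hae]; exact (congrArg _ hg).trans (minpoly.aeval κ _), ?_⟩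
    change IsUnit (aeval (α₀ : K) (derivative g))
    rw [hae, ← derivative_map, hg]
    exact Ne.isUnit ((Algebra.IsSeparable.isSeparable κ (α₀ : K)).aeval_derivative_ne_zero (minpoly.aeval κ _))
  let : Algebra R P.Ring := ((algebraMap Rb P.Ring).comp (algebraMap R Rb)).toAlgebra
  have : IsScalarTower R Rb P.Ring := IsScalarTower.of_algebraMap_eq fun _ => rfl
  have : Algebra.Etale R Rb := Algebra.Etale.of_isLocalizationAway b
  let φ : P.Ring →ₐ[R] K :=
    { (P.lift (α₀ : K) hα).toRingHom with
      commutes' := fun r => by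
        change P.lift (α₀ : K) hα (algebraMap Rb P.Ring (algebraMap R Rb r)) = _
        rw [AlgHom.commutes]
        change algebraMap κ K (ψ (algebraMap R Rb r)) = _
        rw [hψ, ← IsScalarTower.algebraMap_apply] }
  refine ⟨P.Ring, inferInstance, inferInstance, φ, fun i => aeval P.X (p i),
    Algebra.Etale.comp R Rb P.Ring, fun i => ?_⟩
  change P.lift (α₀ : K) hα (aeval P.X (p i)) = c i
  rw [← aeval_algHom_apply, StandardEtalePair.lift_X, hae, hp, hq]

/-- A non-zero polynomial over a residue field takes an invertible value at some etale point. -/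
theorem exists_etale_nonvanishing {R : Type u} [CommRing R] (p : Ideal R) [p.IsPrime] {n : ℕ}
    (F : MvPolynomial (Fin n) R) (hF : MvPolynomial.map (algebraMap R p.ResidueField) F ≠ 0) :
    ∃ (R₂ : Type u) (_ : CommRing R₂) (_ : Algebra R R₂) (σ : MvPolynomial (Fin n) R →ₐ[R] R₂)
      (Q : Ideal R₂), Q.IsPrime ∧ Algebra.Etale R R₂ ∧ Q.comap (algebraMap R R₂) = p ∧ σ F ∉ Q := by
  let κ := p.ResidueField
  let K := SeparableClosure κ
  have : Infinite K := infinite_of_isSepClosed K
  obtain ⟨c, hc⟩ : ∃ c : Fin n → K,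
      MvPolynomial.eval c (MvPolynomial.map (algebraMap κ K) (MvPolynomial.map (algebraMap R κ) F)) ≠ 0 := by
    by_contra h
    push Not at h
    apply hF
    refine MvPolynomial.map_injective (algebraMap κ K) (algebraMap κ K).injective ?_
    rw [map_zero]
    exact MvPolynomial.funext fun c => by rw [map_zero]; exact h c
  have hκ : ∀ z : κ, ∃ a b : R, algebraMap R κ b ≠ 0 ∧ z * algebraMap R κ b = algebraMap R κ a := fun z => by
    obtain ⟨⟨a, b⟩, hab⟩ := IsLocalization.surj (nonZeroDivisors (R ⧸ p)) z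
    obtain ⟨a, rfl⟩ := Ideal.Quotient.mk_surjective a
    obtain ⟨b', hb'⟩ := Ideal.Quotient.mk_surjective (b : R ⧸ p)
    refine ⟨a, b', fun h => nonZeroDivisors.ne_zero b.2 ?_, ?_⟩
    · rw [← hb', Ideal.Quotient.eq_zero_iff_mem, ← Ideal.algebraMap_residueField_eq_zero]
      exact h
    · rw [← Ideal.algebraMap_quotient_residueField_mk, ← Ideal.algebraMap_quotient_residueField_mk, hb']
      exact hab
  obtain ⟨R₂, _, _, φ, x, het, hx⟩ := exists_etale_point hκ c
  refine ⟨R₂, inferInstance, inferInstance, MvPolynomial.aeval x, RingHom.ker φ.toRingHom,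
    RingHom.ker_isPrime _, het, ?_, fun h => hc ?_⟩
  · rw [RingHom.comap_ker]
    change RingHom.ker (φ.toRingHom.comp (algebraMap R R₂)) = p
    rw [AlgHom.toRingHom_eq_coe, φ.comp_algebraMap, IsScalarTower.algebraMap_eq R κ K,
      RingHom.ker_comp_of_injective _ (algebraMap κ K).injective, Ideal.ker_algebraMap_residueField]
  · rw [MvPolynomial.map_map, ← IsScalarTower.algebraMap_eq, MvPolynomial.eval_map]
    have h' : φ (MvPolynomial.aeval x F) = 0 := h
    rw [← AlgHom.comp_apply, MvPolynomial.comp_aeval] at h'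
    simp only [hx] at h'
    exact h'

end EtSectLib
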