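import Groth.Agent.AlgSpLib.EtSmKey
import Groth.Agent.EtSectLib.Ring
/-!
# Smooth morphisms have sections etale locally on the target
-/

set_option autoImplicit false
universe u
open CategoryTheory CategoryTheory.Limits AlgebraicGeometry

namespace EtSectLib

theorem exists_section {X S : Scheme.{u}} (f : X ⟶ S) [Smooth f] (s : S) (hs : s ∈ Set.range f) :
    ∃ (S' : Scheme.{u}) (g : S' ⟶ S) (s' : S'), Etale g ∧ g s' = s ∧ ∃ h : S' ⟶ X, h ≫ f = g := by
  obtain ⟨v, rfl⟩ := hs
  obtain ⟨R, T, n, jY, η, θ, hjY, hη, ⟨t, ht⟩, heq, P, e, he⟩ :=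
    AlgSpLib.exists_etale_polynomial_chart f v
  have hθe : θ.hom.Etale := by
    have h : θ.hom = e.toRingHom.comp (algebraMap (AlgSpLib.poly n R) P.Ring) :=
      RingHom.ext fun r => (he r).symm
    rw [h]
    exact RingHom.Etale.stableUnderComposition _ _ (RingHom.etale_algebraMap.2 inferInstance)
      (RingHom.Etale.of_bijective e.bijective)
  have : Etale (Spec.map θ) := (HasRingHomProperty.Spec_iff (P := @Etale)).2 hθe
  obtain ⟨U, ⟨F, rfl⟩, hwF, hFsub⟩ := PrimeSpectrum.isTopologicalBasis_basic_opens.exists_subset_of_mem_open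
    (Set.mem_range_self (f := (Spec.map θ : Spec T → Spec (AlgSpLib.poly n R))) t)
    (Spec.map θ).isOpenMap.isOpen_range
  let w : PrimeSpectrum (MvPolynomial (Fin n) R) := Spec.map θ t
  let p : PrimeSpectrum R := PrimeSpectrum.comap MvPolynomial.C w
  have hF : MvPolynomial.map (algebraMap R p.asIdeal.ResidueField) F ≠ 0 := fun h => by
    refine hwF ?_
    change F ∈ w.asIdeal
    have h1 : F ∈ RingHom.ker (MvPolynomial.map (σ := Fin n) (algebraMap R p.asIdeal.ResidueField)) := h
    rw [MvPolynomial.ker_map, Ideal.ker_algebraMap_residueField] at h1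
    exact Ideal.map_comap_le h1
  obtain ⟨R₂, _, _, σ, Q, hQ, het, hQp, hσF⟩ := exists_etale_nonvanishing p.asIdeal F hF
  let σ' : AlgSpLib.poly n R ⟶ CommRingCat.of R₂ := CommRingCat.ofHom σ.toRingHom
  let q : Spec (CommRingCat.of R₂) := ⟨Q, hQ⟩
  obtain ⟨t', ht'⟩ : Spec.map σ' q ∈ Set.range (Spec.map θ : Spec T → Spec (AlgSpLib.poly n R)) :=
    hFsub hσF
  obtain ⟨z, -, hz⟩ := Scheme.Pullback.exists_preimage_pullback t' q ht'
  let γ : Spec (CommRingCat.of R₂) ⟶ Spec R := Spec.map (CommRingCat.ofHom (algebraMap R R₂))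
  have : Etale γ := (HasRingHomProperty.Spec_iff (P := @Etale)).2 (RingHom.etale_algebraMap.2 het)
  refine ⟨pullback (Spec.map θ) (Spec.map σ'), pullback.snd _ _ ≫ γ ≫ jY, z, inferInstance, ?_,
    pullback.fst _ _ ≫ η, ?_⟩
  · rw [← ht]
    change _ = (η ≫ f) t
    rw [heq]
    simp only [Scheme.Hom.comp_apply]
    rw [hz]
    refine congrArg jY (PrimeSpectrum.ext ?_)
    change Q.comap (algebraMap R R₂) = p.asIdeal
    exact hQp
  · rw [Category.assoc, heq, pullback.condition_assoc, ← Spec.map_comp_assoc]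
    refine congrArg (fun a => pullback.snd (Spec.map θ) (Spec.map σ') ≫ a ≫ jY) (congrArg Spec.map ?_)
    exact CommRingCat.hom_ext σ.comp_algebraMap

end EtSectLib
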